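import Mathlib
import Cfsg.Prelude.Def_OddOrderLocal
import Cfsg.Agent.S1350
import Cfsg.Agent.S1351
import Cfsg.Agent.S1352
import Cfsg.Agent.S1355
import Cfsg.Agent.S1364
import Cfsg.Agent.S1375
import Cfsg.Agent.S1417
import Cfsg.Agent.S1418
import Cfsg.Agent.S1420
import Cfsg.Agent.S1421
import Cfsg.Agent.S1432
import Cfsg.Agent.S1437
import Cfsg.Agent.Lib.Helper65.BG.S1537Lite
import Cfsg.Agent.Lib.Helper71.BG.TypeBasics
import Cfsg.Agent.Lib.Helper76.BG.S1420Core
import Cfsg.Agent.Lib.Helper95.PF12.WitnessDescent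
import Cfsg.Agent.Lib.Helper10.PF12.Arith
import Cfsg.Agent.Lib.Helper29.PF12.S1541Core

/-!
# PF12 (S1541): the minimal-pair setup

`G` a minimal simple group of odd order all of whose maximal subgroups are of (Lean) Type I.
If some maximal subgroup has `τ₂ ≠ ∅`, the minimal pair `(L, p)` of helper95's descent and its
witness `N` give the full configuration used by the character-theoretic core:
`L = H ⋊ U` (`H = L_F = L_σ`, `U = L ∩ N`), `N = K ⋊ E` a Frobenius group (`K = N_F = N_σ`),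
`A ≅ E_{p²}` in `U ∩ K`, and a singular `y ∈ A` centralizing an element of `H` outside `H'`.
The structure `PairSetup` lists exactly the hypotheses of helper10's `structure_main`,
`arith_main`, `st_bound` (in the same order), plus the BG facts behind them.
-/

set_option autoImplicit false

namespace Cfsg.Agent.Lib.Helper29.PF12

open Cfsg Subgroup

universe u

variable {G : Type u} [Group G]

/-- A maximal subgroup of Type I has `κ(M) = ∅` and `M_F = M_σ`. -/
theorem typeI_data [Finite G] (hG : IsMinSimpleOddOrder G) (M : Subgroup G) (hM : IsCoatom M)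
    (hI : IsOfTypeI M) : kappa M = ∅ ∧ fittingHallOf M = sigmaCore M := by
  obtain ⟨⟨K, hK⟩, hKc⟩ := Cfsg.Agent.S1351.result hG M hM
  obtain ⟨⟨U, hKU⟩, -⟩ := Cfsg.Agent.S1352.result hG M hM K (hKc K hK) hK
  have hK0 := Cfsg.Agent.Lib.Helper65.BG91.typeI_kappaHall_eq_bot hG
    (Cfsg.Agent.S1355.result hG) (Cfsg.Agent.S1364.result hG) M hM K U hKU hI
  constructor
  · rw [Set.eq_empty_iff_forall_notMem]
    intro q hq
    have h1 := hK.2.2 q hq.1 hq
    rw [hK0, Subgroup.relIndex_bot_left] at h1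
    exact h1 hq.2.1
  · apply Cfsg.Agent.Lib.Helper85.BG.fittingHallOf_eq_sigmaCore_of_not_prime hG
      (Cfsg.Agent.S1437.result hG) M hM K U hKU
    rw [hK0, Subgroup.card_bot]
    exact Nat.not_prime_one

/-- A maximal subgroup with `κ(M) = ∅` and `τ₂(M) = ∅` is a Frobenius group with kernel `M_σ`. -/
theorem frob_of_kappa_tau2 [Finite G] (hG : IsMinSimpleOddOrder G) (M : Subgroup G)
    (hM : IsCoatom M) (hκ : kappa M = ∅) (hτ : tau2 M = ∅) (x : G) (hx : x ∈ sigmaCore M)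
    (hx1 : x ≠ 1) : M ⊓ centralizer ({x} : Set G) ≤ sigmaCore M := by
  intro c hc
  obtain ⟨a, b, hab, ha, hb, hπa, hπb⟩ := Cfsg.Agent.Lib.Helper85.BG.exists_pi_decomp (sigma M) c
  have hzp : Subgroup.zpowers c ≤ M ⊓ Subgroup.centralizer ({x} : Set G) := by
    rw [Subgroup.zpowers_le]
    exact hc
  have hb1 : b = 1 := by
    by_contra hb1
    obtain ⟨p, hp, hpb⟩ := Nat.exists_prime_and_dvd (orderOf_eq_one_iff.not.mpr hb1)
    rcases Cfsg.Agent.S1432.result hG M hM x hx hx1 b (hzp hb) hb1 hπb with ⟨h, -⟩ | ⟨h, -⟩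
    · have := h p hp hpb
      rw [hκ] at this
      exact this
    · have := h p hp hpb
      rw [hτ] at this
      exact this
  rw [hb1, mul_one] at hab
  rw [hab]
  have haM : Subgroup.zpowers a ≤ M := by
    rw [Subgroup.zpowers_le]
    exact (Subgroup.mem_inf.mp (hzp ha)).1
  have hle : Subgroup.zpowers a ≤ sigmaCore M := by
    apply Cfsg.Agent.Lib.Helper27.BG.le_of_coprime_relIndex
      (Cfsg.Agent.Lib.Helper67.BG.sigmaCore_le M)
      (Cfsg.Agent.Lib.Helper67.BG.sigmaCore_normalizer M) haM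
    rw [Nat.card_zpowers]
    apply Nat.coprime_of_dvd
    intro q hq h1 h2
    exact (Cfsg.Agent.S1350.result hG M hM).1.2.2 q hq (hπa q hq h1) h2
  exact hle (Subgroup.mem_zpowers a)

/-- `C_G(⟨y⟩) = C_G(y)`. -/
theorem centralizer_zpowers_eq (y : G) :
    centralizer ((zpowers y : Subgroup G) : Set G) = centralizer ({y} : Set G) := by
  apply le_antisymm
  · apply Subgroup.centralizer_le
    intro z hz
    rw [Set.mem_singleton_iff] at hz
    rw [hz]
    exact Subgroup.mem_zpowers y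
  · intro g hg
    rw [Subgroup.mem_centralizer_iff]
    intro z hz
    obtain ⟨k, rfl⟩ := Subgroup.mem_zpowers_iff.mp hz
    have h1 : Commute y g := (Subgroup.mem_centralizer_iff.mp hg) y (Set.mem_singleton y)
    exact (h1.zpow_left k).eq

/-- The configuration of the minimal pair (see the file header). -/
structure PairSetup {G : Type u} [Group G] (L N H K U U₁ E A : Subgroup G) (p : ℕ) (y : G) :
    Prop where
  coatomL : IsCoatom L
  coatomN : IsCoatom N
  prime : p.Prime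
  tau2L : p ∈ tau2 L
  sigmaN : p ∈ sigma N
  typeIL : IsOfTypeI L
  typeIN : IsOfTypeI N
  H_eq : H = fittingHallOf L
  H_eq' : H = sigmaCore L
  K_eq : K = fittingHallOf N
  K_eq' : K = sigmaCore N
  kappaL : kappa L = ∅
  kappaN : kappa N = ∅
  tau2N : tau2 N = ∅
  frobN : ∀ x ∈ K, x ≠ 1 → N ⊓ centralizer ({x} : Set G) ≤ K
  complL : IsComplIn U H L
  complN : IsComplIn E K N
  hH1 : H ≠ ⊥
  hE1 : E ≠ ⊥
  hHnil : Group.IsNilpotent H
  hHN : H ⊓ N = ⊥
  hUL : U ≤ L
  hLH : L ≤ normalizer (H : Set G)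
  hHU : H ⊓ U = ⊥
  hcop : (Nat.card H).Coprime (Nat.card U)
  hHsolv : Group.IsSolvable H
  hU₁ab : ∀ a ∈ U₁, ∀ b ∈ U₁, a * b = b * a
  hU₁ : ∀ x ∈ H, x ≠ 1 → ∀ u ∈ U, u * x = x * u → u ∈ U₁
  hAU : A ≤ U
  hAcard : Nat.card A = p ^ 2
  hAexp : ∀ a ∈ A, a ^ p = 1
  hUA : U ≤ normalizer (A : Set G)
  hAp : ∀ u ∈ U, u ^ p = 1 → u ∈ A
  hAcent : ∀ R : Subgroup G, R ≤ U → IsPGroup p R → R ≤ centralizer (A : Set G)
  hCHA : H ⊓ centralizer (A : Set G) = ⊥
  hCA : centralizer (A : Set G) ≤ U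
  hyA : y ∈ A
  hy1 : y ≠ 1
  hyD : ∃ x ∈ H, x ∉ (⁅H, H⁆ : Subgroup G) ∧ x * y = y * x
  hNy : normalizer ((zpowers y : Subgroup G) : Set G) ≤ L
  hCy : centralizer ({y} : Set G) ≤ L
  hCyuniq : ∀ L' : Subgroup G, IsCoatom L' → centralizer ({y} : Set G) ≤ L' → L' = L
  hES : E ≤ N
  hSK : N ≤ normalizer (K : Set G)
  hKE : K ⊓ E = ⊥
  hSKE : ∀ s ∈ N, ∃ k ∈ K, ∃ e ∈ E, s = k * e
  hfpf : ∀ e ∈ E, e ≠ 1 → ∀ k ∈ K, e * k = k * e → k = 1
  hKnil : Group.IsNilpotent K
  hAK : A ≤ K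
  hLS : L ⊓ N = U

/-- **Existence of the minimal-pair setup.**  If every maximal subgroup is of Type I and some
maximal subgroup has `τ₂ ≠ ∅`, the configuration `PairSetup` exists. -/
theorem exists_pairSetup [Finite G] (hG : IsMinSimpleOddOrder G)
    (hall : ∀ M : Subgroup G, IsCoatom M → IsOfTypeI M)
    (hne : ∃ L : Subgroup G, IsCoatom L ∧ (tau2 L).Nonempty) :
    ∃ (L N H K U U₁ E A : Subgroup G) (p : ℕ) (y : G), PairSetup L N H K U U₁ E A p y := by
  obtain ⟨L, N, A, p, hL, hp, hAL, hA, hA2, hN, hpN, hAN, hτN, -⟩ :=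
    Cfsg.Agent.Lib.Helper95.PF12.exists_minimal_tau2_pair hG hne
  have hpp : p.Prime := hp.1
  haveI : Fact p.Prime := ⟨hpp⟩
  obtain ⟨hκL, hFL⟩ := typeI_data hG L hL (hall L hL)
  obtain ⟨hκN, hFN⟩ := typeI_data hG N hN (hall N hN)
  have hHallL := (Cfsg.Agent.S1350.result hG L hL).1
  have hHallN := (Cfsg.Agent.S1350.result hG N hN).1
  have hNL : N ≠ L := by
    rintro rfl
    exact hp.2.1 hpN
  obtain ⟨hHnil, -, -, hCHA, hstar, -⟩ :=
    Cfsg.Agent.S1417.result hG L hL p hp A ⟨hAL, hA, hA2⟩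
  have hHN : sigmaCore L ⊓ N = ⊥ := hstar N hN hNL hAN
  have hAK : A ≤ sigmaCore N := by
    refine Cfsg.Agent.Lib.Helper27.BG.le_of_coprime_relIndex
      (Cfsg.Agent.Lib.Helper67.BG.sigmaCore_le N)
      (Cfsg.Agent.Lib.Helper67.BG.sigmaCore_normalizer N) hAN ?_
    rw [hA2]
    exact Nat.Coprime.pow_left 2 ((Nat.Prime.coprime_iff_not_dvd hpp).mpr (hHallN.2.2 p hpp hpN))
  have hAσ : ∀ r : ℕ, r.Prime → r ∣ Nat.card A → r ∉ sigma L := by
    intro r hr hdvd
    rw [hA2] at hdvd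
    have h1 : r = p := (Nat.prime_dvd_prime_iff_eq hr hpp).mp (hr.dvd_of_dvd_pow hdvd)
    rw [h1]
    exact hp.2.1
  obtain ⟨U₀, hU₀, hAU₀⟩ :=
    Cfsg.Agent.Lib.Helper76.BG.exists_compl_ge hG L hL hHallL A hAL hAσ
  have hLH : L ≤ normalizer (sigmaCore L : Set G) :=
    Cfsg.Agent.Lib.Helper67.BG.sigmaCore_normalizer L
  have hHsolv : Group.IsSolvable (sigmaCore L) := by
    haveI := hHnil
    infer_instance
  have hH1 : sigmaCore L ≠ ⊥ := by
    rw [← hFL]
    intro h0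
    have h1 : fittingHall L = ⊥ := by
      unfold fittingHallOf at h0
      exact (Subgroup.map_eq_bot_iff_of_injective _ L.subtype_injective).mp h0
    exact (hall L hL).1.2.2.1 h1
  have hsplitL := Cfsg.Agent.Lib.Helper76.BG.card_sigma_split L hHallL
  have hcop₀ : (Nat.card (sigmaCore L)).Coprime (Nat.card U₀) := by
    rw [Cfsg.Agent.Lib.Helper76.BG.card_compl_eq_relIndex hU₀]
    exact hsplitL.2.symm
  obtain ⟨y, hyA, hy1, x, hxH, hxD, hxy⟩ :=
    Cfsg.Agent.Lib.Helper10.PF12.exists_singular_not_mem_commutator L (sigmaCore L) U₀ A p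
      hU₀.1 hLH hcop₀ hHsolv hH1 hAU₀ hA2 hA.2
  have hx1 : x ≠ 1 := by
    rintro rfl
    exact hxD (Subgroup.one_mem _)
  have hyo : orderOf y = p := orderOf_eq_prime (hA.2 y hyA) hy1
  have hycard : Nat.card (zpowers y) = p := by rw [Nat.card_zpowers, hyo]
  have hxCy : x ∈ centralizer ({y} : Set G) := by
    rw [Subgroup.mem_centralizer_singleton_iff]
    exact hxy
  -- `C_G(y) ≤ L`, uniquely
  obtain ⟨-, -, hX₀⟩ := Cfsg.Agent.S1418.result hG L hL U₀ hU₀ p hp A ⟨hAU₀, hA, hA2⟩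
  have hyne : sigmaCore L ⊓ centralizer ((zpowers y : Subgroup G) : Set G) ≠ ⊥ := by
    intro h0
    have h1 : x ∈ sigmaCore L ⊓ centralizer ((zpowers y : Subgroup G) : Set G) := by
      refine ⟨hxH, ?_⟩
      rw [centralizer_zpowers_eq]
      exact hxCy
    rw [h0, Subgroup.mem_bot] at h1
    exact hx1 h1
  obtain ⟨hCyL, hCyuniq⟩ := hX₀ (zpowers y) (by rw [Subgroup.zpowers_le]; exact hyA) hycard hyne
  rw [centralizer_zpowers_eq] at hCyL hCyuniq
  -- `U = L ⊓ N` is a complement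
  have hyK : y ∈ sigmaCore N := hAK hyA
  have hCyN : ¬ centralizer ({y} : Set G) ≤ N := by
    intro h
    have h1 : x ∈ sigmaCore L ⊓ N := ⟨hxH, h hxCy⟩
    rw [hHN, Subgroup.mem_bot] at h1
    exact hx1 h1
  obtain ⟨N', ⟨hN', hCN'⟩, -, -, -, -, hcomplNL, -⟩ :=
    Cfsg.Agent.S1375.result hG N hN y hyK hy1 hCyN
  have hN'L : N' = L := hCyuniq N' hN' hCN'
  rw [hN'L] at hcomplNL
  have hU : IsComplIn (L ⊓ N) (sigmaCore L) L := by
    rw [inf_comm]
    exact hcomplNL
  have hAU : A ≤ L ⊓ N := le_inf hAL hAN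
  obtain ⟨⟨hUA, hord⟩, ⟨hcentA, hLNA, -⟩, -⟩ :=
    Cfsg.Agent.S1418.result hG L hL (L ⊓ N) hU p hp A ⟨hAU, hA, hA2⟩
  have hcop : (Nat.card (sigmaCore L)).Coprime (Nat.card (L ⊓ N : Subgroup G)) := by
    rw [Cfsg.Agent.Lib.Helper76.BG.card_compl_eq_relIndex hU]
    exact hsplitL.2.symm
  -- the abelian subgroup `U₁`
  have h1421 : ∀ e ∈ (L ⊓ N : Subgroup G), e ≠ 1 →
      (∀ q : ℕ, q.Prime → q ∣ orderOf e → q ∈ tau1 L ∪ tau3 L) →
      sigmaCore L ⊓ centralizer ({e} : Set G) = ⊥ := by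
    intro e he he1 hq
    rw [eq_bot_iff]
    intro z hz
    rw [Subgroup.mem_bot]
    by_contra hz1
    have hez : e ∈ L ⊓ centralizer ({z} : Set G) := by
      refine Subgroup.mem_inf.mpr ⟨he.1, ?_⟩
      rw [Subgroup.mem_centralizer_singleton_iff]
      have := (Subgroup.mem_centralizer_singleton_iff.mp hz.2)
      exact this.symm
    have hσ : ∀ q : ℕ, q.Prime → q ∣ orderOf e → q ∉ sigma L := by
      intro q hqp hqd
      rcases hq q hqp hqd with h | h
      · exact h.2.1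
      · exact h.2.1
    obtain ⟨q, hqp, hqd⟩ := Nat.exists_prime_and_dvd (orderOf_eq_one_iff.not.mpr he1)
    rcases Cfsg.Agent.S1432.result hG L hL z hz.1 hz1 e hez he1 hσ with ⟨h, -⟩ | ⟨h, -⟩
    · have := h q hqp hqd
      rw [hκL] at this
      exact this
    · have h2 := (h q hqp hqd).2.2.2
      rcases hq q hqp hqd with h3 | h3
      · exact h2 h3.2.2.2.2
      · exact h2 h3.2.2.2
  obtain ⟨⟨U₁, -, -, hU₁comm, hU₁c⟩, -⟩ := Cfsg.Agent.S1421.result hG L hL (L ⊓ N) hU h1421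
  -- the Frobenius complement `E` of `N`
  obtain ⟨E, hE, -⟩ := Cfsg.Agent.Lib.Helper76.BG.exists_compl_ge hG N hN hHallN ⊥ bot_le
    (by
      intro q hq hdvd
      rw [Subgroup.card_bot] at hdvd
      exact absurd (Nat.dvd_one.mp hdvd) hq.one_lt.ne')
  have hfrobN : ∀ k ∈ sigmaCore N, k ≠ 1 → N ⊓ centralizer ({k} : Set G) ≤ sigmaCore N :=
    fun k hk hk1 => frob_of_kappa_tau2 hG N hN hκN hτN k hk hk1
  have hSK : N ≤ normalizer (sigmaCore N : Set G) :=
    Cfsg.Agent.Lib.Helper67.BG.sigmaCore_normalizer N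
  have hE1 : E ≠ ⊥ := by
    rintro rfl
    apply (hall N hN).1.2.2.2.1
    rw [eq_top_iff]
    intro n _
    obtain ⟨a, ha, b, hb, hab⟩ := hE.2.2.2 (n : G) n.2
    rw [Subgroup.mem_bot] at ha
    rw [ha, one_mul] at hab
    have hb' : (n : G) ∈ fittingHallOf N := by
      rw [hFN, hab]
      exact hb
    unfold fittingHallOf at hb'
    obtain ⟨n', hn', hnn'⟩ := hb'
    have : n' = n := N.subtype_injective hnn'
    rw [← this]
    exact hn'
  refine ⟨L, N, sigmaCore L, sigmaCore N, L ⊓ N, U₁, E, A, p, y, ?_⟩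
  refine
    { coatomL := hL
      coatomN := hN
      prime := hpp
      tau2L := hp
      sigmaN := hpN
      typeIL := hall L hL
      typeIN := hall N hN
      H_eq := hFL.symm
      H_eq' := rfl
      K_eq := hFN.symm
      K_eq' := rfl
      kappaL := hκL
      kappaN := hκN
      tau2N := hτN
      frobN := hfrobN
      complL := hU
      complN := hE
      hH1 := hH1
      hE1 := hE1
      hHnil := hHnil
      hHN := hHN
      hUL := inf_le_left
      hLH := hLH
      hHU := ?_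
      hcop := hcop
      hHsolv := hHsolv
      hU₁ab := ?_
      hU₁ := ?_
      hAU := hAU
      hAcard := hA2
      hAexp := hA.2
      hUA := hUA
      hAp := ?_
      hAcent := ?_
      hCHA := hCHA
      hCA := ?_
      hyA := hyA
      hy1 := hy1
      hyD := ⟨x, hxH, hxD, hxy⟩
      hNy := ?_
      hCy := hCyL
      hCyuniq := hCyuniq
      hES := hE.1
      hSK := hSK
      hKE := ?_
      hSKE := ?_
      hfpf := ?_
      hKnil := ?_
      hAK := hAK
      hLS := rfl }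
  · rw [inf_comm]
    exact hU.2.2.1
  · intro a ha b hb
    have := hU₁comm.is_comm.comm ⟨a, ha⟩ ⟨b, hb⟩
    exact congrArg Subtype.val this
  · intro z hz hz1 u hu huz
    apply hU₁c z hz hz1
    refine Subgroup.mem_inf.mpr ⟨hu, ?_⟩
    rw [Subgroup.mem_centralizer_singleton_iff]
    exact huz
  · intro u hu hup
    by_cases hu1 : u = 1
    · rw [hu1]
      exact A.one_mem
    · have huo : orderOf u = p := orderOf_eq_prime hup hu1
      have hucard : Nat.card (zpowers u) = p := by rw [Nat.card_zpowers, huo]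
      exact hord (zpowers u) (by rw [Subgroup.zpowers_le]; exact hu) hucard (Subgroup.mem_zpowers u)
  · intro R hRU hRp
    have hAp' : IsPGroup p A := IsPGroup.of_card hA2
    have hRA : IsPGroup p (R ⊔ A : Subgroup G) :=
      IsPGroup.to_sup_of_normal_right' hRp hAp' (hRU.trans hUA)
    have hRAL : R ⊔ A ≤ L := sup_le (hRU.trans inf_le_left) hAL
    have hnil : Group.IsNilpotent (R ⊔ A : Subgroup G) := hRA.isNilpotent
    have hcomm := (Cfsg.Agent.S1420.result hG L hL (L ⊓ N) hU).1 (R ⊔ A) hRAL hnil (by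
      intro q hq hdvd
      have := Cfsg.Agent.Lib.Helper67.BG.prime_eq_of_dvd_card_isPGroup hRA hq hdvd
      rw [this]
      exact hp.2.1)
    intro r hr
    rw [Subgroup.mem_centralizer_iff]
    intro a ha
    have := hcomm.is_comm.comm ⟨a, (le_sup_right : A ≤ R ⊔ A) ha⟩ ⟨r, (le_sup_left : R ≤ R ⊔ A) hr⟩
    exact congrArg Subtype.val this
  · rw [← hLNA]
    exact hcentA
  · have hz1 : (zpowers y : Subgroup G) ≠ ⊥ := by
      intro h0
      exact hy1 (Subgroup.zpowers_eq_bot.mp h0)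
    have hzL : (zpowers y : Subgroup G) ≤ L := by
      rw [Subgroup.zpowers_le]
      exact hAL hyA
    have hz2 : (zpowers y : Subgroup G) ≠ ⊤ := by
      intro h0
      rw [h0] at hzL
      exact hL.1 (top_le_iff.mp hzL)
    obtain ⟨L', hL', hNL'⟩ := Cfsg.Agent.Lib.Helper35.BG.exists_coatom_ge
      (Cfsg.Agent.Lib.Helper35.BG.normalizer_ne_top hG hz1 hz2)
    have hCL' : centralizer ({y} : Set G) ≤ L' := by
      rw [← centralizer_zpowers_eq]
      exact (Subgroup.centralizer_le_normalizer _).trans hNL'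
    rw [← hCyuniq L' hL' hCL']
    exact hNL'
  · rw [inf_comm]
    exact hE.2.2.1
  · intro s hs
    obtain ⟨a, ha, b, hb, hab⟩ := hE.2.2.2 s hs
    refine ⟨a * b * a⁻¹, ?_, a, ha, ?_⟩
    · exact ((Subgroup.mem_normalizer_iff.mp (hSK (hE.1 ha))) b).mp hb
    · rw [hab]
      group
  · intro e he he1 k hk hek
    by_contra hk1
    have h1 : e ∈ N ⊓ centralizer ({k} : Set G) := by
      refine Subgroup.mem_inf.mpr ⟨hE.1 he, ?_⟩
      rw [Subgroup.mem_centralizer_singleton_iff]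
      exact hek
    have h2 : e ∈ E ⊓ sigmaCore N := ⟨he, hfrobN k hk hk1 h1⟩
    rw [hE.2.2.1, Subgroup.mem_bot] at h2
    exact he1 h2
  · rw [← hFN]
    exact Cfsg.Agent.Lib.Helper71.BG.fittingHallOf_isNilpotent N

end Cfsg.Agent.Lib.Helper29.PF12
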