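import Mathlib
import Cfsg.Prelude.Def_OddOrderLocal
import Cfsg.Prelude.Def_OddOrderChar
import Cfsg.Agent.S1355
import Cfsg.Agent.S1375
import Cfsg.Agent.S1378
import Cfsg.Agent.S1379
import Cfsg.Agent.S1526
import Cfsg.Agent.S1537
import Cfsg.Agent.S1542
import Cfsg.Agent.Lib.Helper23.TypeP
import Cfsg.Agent.Lib.Helper27.BG.SigmaBasic
import Cfsg.Agent.Lib.Helper44.BG.S1374Core
import Cfsg.Agent.Lib.Helper62.PF12.Glue
import Cfsg.Agent.Lib.Helper29.PF12.Setup

/-!
# PF12 (S1541): instantiation of the character core for the minimal pair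

`PF12CoreStmt` is the statement of helper4's abstract character core `pf12_core`.  From it and the
minimal-pair setup (`PairSetup`) we get a contradiction, hence: if every maximal subgroup of a
minimal simple group of odd order is of Type I then every `τ₂(M)` is empty, and then the landed
assembly `s1541_core'` finishes S1541.
-/

set_option autoImplicit false

namespace Cfsg.Agent.Lib.Helper29.PF12

open Cfsg Subgroup

universe u

/-- The statement of the abstract character core (helper4's `pf12_core`). -/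
def PF12CoreStmt : Prop :=
  ∀ (G : Type u) [Group G] [Fintype G] (L N : Subgroup G) [Fintype L] [Fintype N]
    (H : Subgroup L) [H.Normal] (K : Subgroup N) [K.Normal]
    (AL AN : Set G) (RL RN : G → Subgroup G)
    (_hodd : Odd (Nat.card G)) (_hDL : DadeHypothesis AL L RL) (_hDN : DadeHypothesis AN N RN)
    (_hAN : ∀ x : N, (x : G) ∈ AN ↔ x ∈ K ∧ x ≠ 1)
    (_hirr : ∀ χ ∈ inducedIrrAbove K ⊥, IsIrrCharacter N χ)
    (_hcoh : IsCoherent (inducedIrrAbove K ⊥) ({1}ᶜ : Set N) (dadeIsometry AN N RN))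
    (_hKsolv : Group.IsSolvable K) (_hK1 : K ≠ ⊥) (_hHall : Nat.Coprime (Nat.card H) H.index)
    (u : L) (p : ℕ) (_hp : p.Prime) (_hu : orderOf u = p) (_hcop : Nat.Coprime p (Nat.card H))
    (huN : (u : G) ∈ N) (_huK : (⟨(u : G), huN⟩ : N) ∈ K)
    (_hxu : ∃ x : H, x ∉ commutator H ∧ (x : L) * u = u * x)
    (_hFA : ∀ x : L, x ∈ H ⊔ Subgroup.zpowers u → x ≠ 1 → (x : G) ∈ AL)
    (_hRL : ∀ x : L, x ∈ H ⊔ Subgroup.zpowers u → x ∉ H → RL (x : G) = ⊥)
    (_hRN : ∀ i : ℕ, 0 < i → i < p →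
      RN ((u : G) ^ i) = (H.map L.subtype) ⊓ Subgroup.centralizer {(u : G) ^ i})
    (_hD : ∀ g : G, ∀ a : L, a ∈ H → a ≠ 1 →
      (∃ r ∈ RL (a : G), ∃ x : G, x * g * x⁻¹ = (a : G) * r) →
      ∀ b : N, b ∈ K → b ≠ 1 → (∃ s ∈ RN (b : G), ∃ y : G, y * g * y⁻¹ = (b : G) * s) → False)
    (_hST : ∀ T : Subgroup L, H ≤ T → (∀ x ∈ T, x ∉ H → ∃ h ∈ H, h ≠ 1 ∧ x * h = h * x) →
      Nat.card T * K.index + 2 * Nat.card H ≤ Nat.card K * Nat.card H)
    (_he3 : 3 ≤ K.index) (_hep : K.index + 2 ≤ p) (_hdvd : K.index ∣ p ^ 2 - 1)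
    (_hKcard : p ^ 2 ≤ Nat.card K)
    (_hLcard : Nat.card L ≤ Nat.card H * Nat.card K) (_hHD : p + 1 ≤ (commutator H).index),
    False

variable {G : Type u} [Group G]

/-! ### `fittingHall ↥M` versus `fittingHallOf M` -/

theorem mem_fittingHall_iff (M : Subgroup G) (x : M) :
    x ∈ fittingHall M ↔ (x : G) ∈ fittingHallOf M := by
  unfold fittingHallOf
  constructor
  · intro h
    exact ⟨x, h, rfl⟩
  · rintro ⟨x', hx', hxx'⟩
    have : x' = x := M.subtype_injective hxx'
    rw [← this]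
    exact hx'

theorem card_fittingHall (M : Subgroup G) :
    Nat.card (fittingHall M) = Nat.card (fittingHallOf M) := by
  unfold fittingHallOf
  rw [Subgroup.card_map_of_injective M.subtype_injective]

theorem index_fittingHall (M : Subgroup G) :
    (fittingHall M).index = (fittingHallOf M).relIndex M := by
  unfold fittingHallOf Subgroup.relIndex Subgroup.subgroupOf
  rw [Subgroup.comap_map_eq_self_of_injective M.subtype_injective]

theorem map_commutator_fittingHall (M : Subgroup G) :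
    (commutator (fittingHall M)).map (M.subtype.comp (fittingHall M).subtype) =
      ⁅fittingHallOf M, fittingHallOf M⁆ := by
  rw [← Subgroup.map_map, Subgroup.map_subtype_commutator, Subgroup.map_commutator]
  rfl

theorem index_commutator_fittingHall (M : Subgroup G) :
    (commutator (fittingHall M)).index =
      (⁅fittingHallOf M, fittingHallOf M⁆ : Subgroup G).relIndex (fittingHallOf M) := by
  have hf : Function.Injective (M.subtype.comp (fittingHall M).subtype) :=
    M.subtype_injective.comp (Subgroup.subtype_injective _)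
  have h2 : (⊤ : Subgroup (fittingHall M)).map (M.subtype.comp (fittingHall M).subtype) =
      fittingHallOf M := by
    rw [← Subgroup.map_map, ← MonoidHom.range_eq_map, Subgroup.range_subtype]
    rfl
  rw [← map_commutator_fittingHall]
  conv_rhs => rw [← h2]
  rw [Subgroup.relIndex_map_map_of_injective _ _ hf, Subgroup.relIndex_top_right]

theorem not_mem_commutator_fittingHall (M : Subgroup G) (x : fittingHall M)
    (hx : ((x : M) : G) ∉ (⁅fittingHallOf M, fittingHallOf M⁆ : Subgroup G)) :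
    x ∉ commutator (fittingHall M) := by
  intro h
  apply hx
  rw [← map_commutator_fittingHall]
  exact ⟨x, h, rfl⟩

/-! ### Consequences of the setup in the ambient group -/

section setup

variable {L N H K U U₁ E A : Subgroup G} {p : ℕ} {y : G}

/-- `N` is not conjugate to `L`. -/
theorem PairSetup.not_conj [Finite G] (hS : PairSetup L N H K U U₁ E A p y) (g : G) :
    N ≠ L.map (MulAut.conj g).toMonoidHom := by
  intro h
  have h1 : sigma N = sigma L := by
    rw [h, Cfsg.Agent.Lib.Helper27.BG.sigma_map_conj]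
  have h2 := hS.sigmaN
  rw [h1] at h2
  exact hS.tau2L.2.1 h2

/-- Claim (D): the Dade supports of `H ∖ 1` in `L` and of `K ∖ 1` in `N` are disjoint. -/
theorem PairSetup.claimD [Finite G] (hG : IsMinSimpleOddOrder G)
    (hS : PairSetup L N H K U U₁ E A p y) (g : G)
    (a : G) (ha : a ∈ H) (ha1 : a ≠ 1) (hga : ∃ r ∈ supportR L a, ∃ x : G, x * g * x⁻¹ = a * r)
    (b : G) (hb : b ∈ K) (hb1 : b ≠ 1) (hgb : ∃ s ∈ supportR N b, ∃ z : G, z * g * z⁻¹ = b * s) :
    False := by
  have h := (Cfsg.Agent.S1379.result hG).1 L N hS.coatomL hS.coatomN hS.not_conj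
  have hmem : g ∈ tildeOf L ((sigmaCore L : Set G) \ {1}) ∩
      tildeOf N ((sigmaCore N : Set G) \ {1}) := by
    obtain ⟨r, hr, x, hx⟩ := hga
    obtain ⟨s, hs, z, hz⟩ := hgb
    constructor
    · refine ⟨a, ⟨?_, ha1⟩, r, hr, x⁻¹, ?_⟩
      · rw [← hS.H_eq']
        exact ha
      · rw [← hx]
        group
    · refine ⟨b, ⟨?_, hb1⟩, s, hs, z⁻¹, ?_⟩
      · rw [← hS.K_eq']
        exact hb
      · rw [← hz]
        group
  rw [h] at hmem
  exact hmem

/-- The element of `H` outside `H'` centralized by `y`, as a non-identity element. -/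
theorem PairSetup.exists_comm [Finite G] (hS : PairSetup L N H K U U₁ E A p y) :
    ∃ x ∈ H, x ≠ 1 ∧ x * y = y * x := by
  obtain ⟨x, hx, hxD, hxy⟩ := hS.hyD
  refine ⟨x, hx, ?_, hxy⟩
  rintro rfl
  exact hxD (Subgroup.one_mem _)

theorem PairSetup.orderOf_y (hS : PairSetup L N H K U U₁ E A p y) : orderOf y = p := by
  haveI : Fact p.Prime := ⟨hS.prime⟩
  exact orderOf_eq_prime (hS.hAexp y hS.hyA) hS.hy1

/-- `C_G(y ^ i) = C_G(y)` for `0 < i < p`. -/
theorem PairSetup.centralizer_pow (hS : PairSetup L N H K U U₁ E A p y) (i : ℕ) (hi0 : 0 < i)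
    (hip : i < p) : centralizer ({y ^ i} : Set G) = centralizer ({y} : Set G) := by
  have hcop : i.Coprime (orderOf y) := by
    rw [hS.orderOf_y, Nat.coprime_comm]
    exact (Nat.Prime.coprime_iff_not_dvd hS.prime).2
      (fun hd => absurd (Nat.le_of_dvd hi0 hd) (not_le.mpr hip))
  obtain ⟨m, hm⟩ := exists_pow_eq_self_of_coprime hcop
  apply le_antisymm
  · intro g hg
    rw [Subgroup.mem_centralizer_singleton_iff] at hg ⊢
    have h1 : Commute g (y ^ i) := hg
    have h2 : Commute g ((y ^ i) ^ m) := h1.pow_right m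
    rw [hm] at h2
    exact h2
  · intro g hg
    rw [Subgroup.mem_centralizer_singleton_iff] at hg ⊢
    have h1 : Commute g y := hg
    exact (h1.pow_right i)

/-- `R_N(y ^ i) = C_H(y ^ i)` for `0 < i < p`. -/
theorem PairSetup.supportR_pow [Finite G] (hS : PairSetup L N H K U U₁ E A p y) (i : ℕ)
    (hi0 : 0 < i) (hip : i < p) :
    supportR N (y ^ i) = fittingHallOf L ⊓ centralizer ({y ^ i} : Set G) := by
  have hC := hS.centralizer_pow i hi0 hip
  apply Cfsg.Agent.Lib.Helper44.BG.supportR_eq_of_unique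
  · rw [hC]
    intro h
    obtain ⟨x, hx, hx1, hxy⟩ := hS.exists_comm
    have h1 : x ∈ H ⊓ N := by
      refine Subgroup.mem_inf.mpr ⟨hx, h ?_⟩
      rw [Subgroup.mem_centralizer_singleton_iff]
      exact hxy
    rw [hS.hHN, Subgroup.mem_bot] at h1
    exact hx1 h1
  · exact hS.coatomL
  · rw [hC]
    exact hS.hCy
  · rw [hC]
    exact hS.hCyuniq

/-- `A(N) = K ∖ 1`. -/
theorem PairSetup.mem_typeA_N (hS : PairSetup L N H K U U₁ E A p y) (x : G) :
    x ∈ typeA N ↔ x ∈ K ∧ x ≠ 1 := by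
  classical
  unfold typeA
  rw [if_pos hS.typeIN]
  constructor
  · rintro ⟨hxN, hx1, z, hz, hz1, hxz⟩
    refine ⟨?_, hx1⟩
    rw [← hS.K_eq] at hz
    apply hS.frobN z hz hz1
    refine Subgroup.mem_inf.mpr ⟨hxN, ?_⟩
    rw [Subgroup.mem_centralizer_singleton_iff]
    exact hxz
  · rintro ⟨hxK, hx1⟩
    refine ⟨hS.complN.2.1 hxK, hx1, x, ?_, hx1, rfl⟩
    rw [← hS.K_eq]
    exact hxK

/-- Elements of `L` commuting with a non-identity element of `H` lie in `A(L)`. -/
theorem PairSetup.mem_typeA_L (hS : PairSetup L N H K U U₁ E A p y) (x : G) (hxL : x ∈ L)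
    (hx1 : x ≠ 1) (h : ∃ z ∈ H, z ≠ 1 ∧ x * z = z * x) : x ∈ typeA L := by
  classical
  unfold typeA
  rw [if_pos hS.typeIL]
  obtain ⟨z, hz, hz1, hxz⟩ := h
  refine ⟨hxL, hx1, z, ?_, hz1, hxz⟩
  rw [← hS.H_eq]
  exact hz

end setup

/-- **The minimal pair contradicts the character core.**  `hSTG` is the bound (ST') in the
ambient group (helper95's `st_of_setup`). -/
theorem false_of_pairSetup (hcore : PF12CoreStmt.{u}) [Finite G] (hG : IsMinSimpleOddOrder G)
    {L N H K U U₁ E A : Subgroup G} {p : ℕ} {y : G} (hS : PairSetup L N H K U U₁ E A p y)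
    (hSTG : ∀ T : Subgroup G, H ≤ T → T ≤ L →
      (∀ t ∈ T, t ∉ H → ∃ h ∈ H, h ≠ 1 ∧ t * h = h * t) →
      Nat.card T * Nat.card E + 2 * Nat.card H ≤ Nat.card K * Nat.card H) : False := by
  classical
  letI : Fintype G := Fintype.ofFinite G
  letI : Fintype L := Fintype.ofFinite L
  letI : Fintype N := Fintype.ofFinite N
  haveI : Fact p.Prime := ⟨hS.prime⟩
  have hyH := hS.exists_comm
  obtain ⟨hUK, -, hE3, hEp, hEdvd, -, hKp2⟩ :=
    Cfsg.Agent.Lib.Helper10.PF12.arith_main L H U U₁ N K E A p y hG.1 hS.hE1 hS.hUL hS.hLH hS.hHU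
      hS.hcop hS.hHsolv hS.hU₁ab hS.hU₁ hS.hAU hS.hAcard hS.hAexp hS.hUA hS.hAp hS.hAcent hS.hCHA
      hS.hCA hS.hyA hS.hy1 hyH hS.hNy hS.hES hS.hSK hS.hKE hS.hSKE hS.hfpf hS.hKnil hS.hAK hS.hLS
  have hHD := Cfsg.Agent.Lib.Helper10.PF12.relIndex_commutator_ge L H U A p hS.hUL hS.hLH hS.hcop
    hS.hHsolv hS.hH1 hS.hAU hS.hAcard hS.hCHA
  have hHeq : H = fittingHallOf L := hS.H_eq
  have hKeq : K = fittingHallOf N := hS.K_eq
  have hmemH : ∀ x : L, x ∈ fittingHall L ↔ (x : G) ∈ H := by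
    intro x
    rw [mem_fittingHall_iff, ← hHeq]
  have hmemK : ∀ x : N, x ∈ fittingHall N ↔ (x : G) ∈ K := by
    intro x
    rw [mem_fittingHall_iff, ← hKeq]
  have hcardH : Nat.card (fittingHall L) = Nat.card H := by rw [card_fittingHall, ← hHeq]
  have hcardK : Nat.card (fittingHall N) = Nat.card K := by rw [card_fittingHall, ← hKeq]
  have hcomplN : IsComplIn E (sigmaCore N) N := by
    rw [← hS.K_eq']
    exact hS.complN
  have hidxK : (fittingHall N).index = Nat.card E := by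
    rw [index_fittingHall, ← hKeq, hS.K_eq',
      ← Cfsg.Agent.Lib.Helper76.BG.card_compl_eq_relIndex hcomplN]
  have hyL : y ∈ L := hS.hUL (hS.hAU hS.hyA)
  have hyN : y ∈ N := hS.complN.2.1 (hS.hAK hS.hyA)
  have hu : orderOf (⟨y, hyL⟩ : L) = p := by
    rw [← hS.orderOf_y]
    exact Subgroup.orderOf_mk y hyL
  have hcop : Nat.Coprime p (Nat.card (fittingHall L)) := by
    rw [hcardH]
    have hpU : p ∣ Nat.card U := by
      have h1 : Nat.card A ∣ Nat.card U := Subgroup.card_dvd_of_le hS.hAU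
      rw [hS.hAcard] at h1
      exact (dvd_pow_self p two_ne_zero).trans h1
    exact (Nat.Coprime.coprime_dvd_right hpU hS.hcop).symm
  have huK : (⟨y, hyN⟩ : N) ∈ fittingHall N := by
    rw [hmemK]
    exact hS.hAK hS.hyA
  have hxu : ∃ x : fittingHall L, x ∉ commutator (fittingHall L) ∧
      (x : L) * (⟨y, hyL⟩ : L) = (⟨y, hyL⟩ : L) * x := by
    obtain ⟨x, hx, hxD, hxy⟩ := hS.hyD
    have hxL : x ∈ L := hS.complL.2.1 hx
    have hxF : (⟨x, hxL⟩ : L) ∈ fittingHall L := by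
      rw [hmemH]
      exact hx
    refine ⟨⟨⟨x, hxL⟩, hxF⟩, ?_, ?_⟩
    · apply not_mem_commutator_fittingHall
      rw [← hHeq]
      exact hxD
    · apply Subtype.ext
      exact hxy
  have hDL : DadeHypothesis (typeA L) L (supportR L) :=
    (Cfsg.Agent.S1537.result hG L hS.coatomL (typeA L) (Or.inr (Or.inl rfl))).2
  have hDN : DadeHypothesis (typeA N) N (supportR N) :=
    (Cfsg.Agent.S1537.result hG N hS.coatomN (typeA N) (Or.inr (Or.inl rfl))).2
  have hAN : ∀ x : N, (x : G) ∈ typeA N ↔ x ∈ fittingHall N ∧ x ≠ 1 := by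
    intro x
    rw [hS.mem_typeA_N, hmemK]
    constructor
    · rintro ⟨h1, h2⟩
      exact ⟨h1, fun h => h2 (by rw [h]; rfl)⟩
    · rintro ⟨h1, h2⟩
      exact ⟨h1, fun h => h2 (Subtype.ext h)⟩
  have hfrob : ∀ x ∈ fittingHallOf N, x ≠ 1 →
      N ⊓ centralizer ({x} : Set G) ≤ fittingHallOf N := by
    rw [← hKeq]
    exact hS.frobN
  obtain ⟨hirr, hcoh⟩ := Cfsg.Agent.S1542.result hG N hS.coatomN hS.typeIN hfrob
  have hKsolv : Group.IsSolvable (fittingHall N) := by
    haveI := Cfsg.Agent.Lib.Helper4.CN.fittingHall_nilpotent N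
    infer_instance
  have hK1 : fittingHall N ≠ ⊥ := hS.typeIN.1.2.2.1
  have hHall : Nat.Coprime (Nat.card (fittingHall L)) (fittingHall L).index :=
    Cfsg.Agent.Lib.Helper23.fittingHall_coprime L
  have hFA := Cfsg.Agent.Lib.Helper62.PF12.hFA_of (fittingHall L) (⟨y, hyL⟩ : L) p hS.prime hu hcop
    (typeA L)
    (by
      rintro x hx1 ⟨h, hh, hh1, hxh⟩
      apply hS.mem_typeA_L (x : G) x.2 (fun h0 => hx1 (Subtype.ext h0))
      exact ⟨(h : G), (hmemH h).mp hh, fun h0 => hh1 (Subtype.ext h0), congrArg Subtype.val hxh⟩)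
    (by
      intro x hx hx1
      exact ⟨x, hx, hx1, rfl⟩)
    (by
      obtain ⟨x, hx, hx1, hxy⟩ := hS.exists_comm
      have hxL : x ∈ L := hS.complL.2.1 hx
      exact ⟨⟨x, hxL⟩, (hmemH ⟨x, hxL⟩).mpr hx, fun h0 => hx1 (congrArg Subtype.val h0),
        Subtype.ext hxy⟩)
  have hRL := Cfsg.Agent.Lib.Helper62.PF12.hRL_of (fittingHall L) (⟨y, hyL⟩ : L) p hS.prime hu hcop
    (supportR L) (fun x hx => Cfsg.Agent.Lib.Helper44.BG.supportR_eq_bot_of_le hx) hS.hCy
  have hRN : ∀ i : ℕ, 0 < i → i < p → supportR N (((⟨y, hyL⟩ : L) : G) ^ i) =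
      ((fittingHall L).map L.subtype) ⊓ Subgroup.centralizer {((⟨y, hyL⟩ : L) : G) ^ i} :=
    fun i hi0 hip => hS.supportR_pow i hi0 hip
  have hD : ∀ g : G, ∀ a : L, a ∈ fittingHall L → a ≠ 1 →
      (∃ r ∈ supportR L (a : G), ∃ x : G, x * g * x⁻¹ = (a : G) * r) →
      ∀ b : N, b ∈ fittingHall N → b ≠ 1 →
      (∃ s ∈ supportR N (b : G), ∃ z : G, z * g * z⁻¹ = (b : G) * s) → False := by
    intro g a ha ha1 hga b hb hb1 hgb
    exact hS.claimD hG g (a : G) ((hmemH a).mp ha) (fun h0 => ha1 (Subtype.ext h0)) hga (b : G)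
      ((hmemK b).mp hb) (fun h0 => hb1 (Subtype.ext h0)) hgb
  have hST : ∀ T : Subgroup L, fittingHall L ≤ T →
      (∀ x ∈ T, x ∉ fittingHall L → ∃ h ∈ fittingHall L, h ≠ 1 ∧ x * h = h * x) →
      Nat.card T * (fittingHall N).index + 2 * Nat.card (fittingHall L) ≤
        Nat.card (fittingHall N) * Nat.card (fittingHall L) := by
    intro T hHT hT
    have h1 := hSTG (T.map L.subtype) ?_ (Subgroup.map_subtype_le T) ?_
    · rw [Subgroup.card_map_of_injective L.subtype_injective] at h1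
      rw [hidxK, hcardH, hcardK]
      exact h1
    · intro h hh
      have hhL : h ∈ L := hS.complL.2.1 hh
      exact ⟨⟨h, hhL⟩, hHT ((hmemH ⟨h, hhL⟩).mpr hh), rfl⟩
    · rintro t ⟨t', ht', rfl⟩ htH
      have ht'H : t' ∉ fittingHall L := fun h0 => htH ((hmemH t').mp h0)
      obtain ⟨h, hh, hh1, hth⟩ := hT t' ht' ht'H
      exact ⟨(h : G), (hmemH h).mp hh, fun h0 => hh1 (Subtype.ext h0), congrArg Subtype.val hth⟩
  have he3 : 3 ≤ (fittingHall N).index := by
    rw [hidxK]
    exact hE3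
  have hep : (fittingHall N).index + 2 ≤ p := by
    rw [hidxK]
    exact hEp
  have hdvd : (fittingHall N).index ∣ p ^ 2 - 1 := by
    rw [hidxK]
    exact hEdvd
  have hKcard : p ^ 2 ≤ Nat.card (fittingHall N) := by
    rw [hcardK]
    exact hKp2
  have hLcard : Nat.card L ≤ Nat.card (fittingHall L) * Nat.card (fittingHall N) := by
    rw [hcardH, hcardK, Cfsg.Agent.Lib.Helper23.card_of_isComplIn hS.complL, mul_comm]
    exact Nat.mul_le_mul_left _ (Subgroup.card_le_of_le hUK)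
  have hHD' : p + 1 ≤ (commutator (fittingHall L)).index := by
    rw [index_commutator_fittingHall, ← hHeq]
    exact hHD
  exact hcore G L N (fittingHall L) (fittingHall N) (typeA L) (typeA N) (supportR L) (supportR N)
    hG.1 hDL hDN hAN hirr hcoh hKsolv hK1 hHall (⟨y, hyL⟩ : L) p hS.prime hu hcop hyN huK hxu hFA
    hRL hRN hD hST he3 hep hdvd hKcard hLcard hHD'

/-- Under the character core and the bound (ST'): if all maximal subgroups are of Type I then
every `τ₂(M)` is empty. -/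
theorem tau2_empty_of_core (hcore : PF12CoreStmt.{u}) [Finite G] (hG : IsMinSimpleOddOrder G)
    (hST : ∀ {L N H K U U₁ E A : Subgroup G} {p : ℕ} {y : G}, PairSetup L N H K U U₁ E A p y →
      ∀ T : Subgroup G, H ≤ T → T ≤ L →
      (∀ t ∈ T, t ∉ H → ∃ h ∈ H, h ≠ 1 ∧ t * h = h * t) →
      Nat.card T * Nat.card E + 2 * Nat.card H ≤ Nat.card K * Nat.card H)
    (hall : ∀ M : Subgroup G, IsCoatom M → IsOfTypeI M) (M : Subgroup G) (hM : IsCoatom M) :
    tau2 M = ∅ := by
  by_contra hne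
  obtain ⟨L, N, H, K, U, U₁, E, A, p, y, hS⟩ :=
    exists_pairSetup hG hall ⟨M, hM, Set.nonempty_iff_ne_empty.mpr hne⟩
  exact false_of_pairSetup hcore hG hS (hST hS)

/-- **S1541 from the character core**: some maximal subgroup is not of Type I. -/
theorem s1541_of_core (hcore : PF12CoreStmt.{u}) [Finite G] (hG : IsMinSimpleOddOrder G)
    (hST : ∀ {L N H K U U₁ E A : Subgroup G} {p : ℕ} {y : G}, PairSetup L N H K U U₁ E A p y →
      ∀ T : Subgroup G, H ≤ T → T ≤ L →
      (∀ t ∈ T, t ∉ H → ∃ h ∈ H, h ≠ 1 ∧ t * h = h * t) →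
      Nat.card T * Nat.card E + 2 * Nat.card H ≤ Nat.card K * Nat.card H) :
    ∃ M : Subgroup G, IsCoatom M ∧ ¬ IsOfTypeI M := by
  by_contra hcon
  have hall : ∀ M : Subgroup G, IsCoatom M → IsOfTypeI M := by
    intro M hM
    by_contra hI
    exact hcon ⟨M, hM, hI⟩
  have hκ : ∀ M : Subgroup G, IsCoatom M → kappa M = ∅ :=
    fun M hM => (typeI_data hG M hM (hall M hM)).1
  have hτ : ∀ M : Subgroup G, IsCoatom M → tau2 M = ∅ :=
    fun M hM => tau2_empty_of_core hcore hG hST hall M hM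
  exact s1541_core' hG (Cfsg.Agent.S1350.result hG) (Cfsg.Agent.S1355.result hG)
    (Cfsg.Agent.S1375.result hG) (Cfsg.Agent.S1378.result hG) (Cfsg.Agent.S1432.result hG)
    (@Cfsg.Agent.S1526.result G _ _) hκ hτ

end Cfsg.Agent.Lib.Helper29.PF12
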